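import Cfsg.Prelude.Def_ChevAutomorphisms
import Cfsg.Agent.Lib.Chev.NormalForm
import Cfsg.Agent.Lib.Chev.TorusCard
import Cfsg.Agent.Lib.Chev.Map

/-!
Fixed points of field automorphisms of Chevalley groups.
-/

set_option autoImplicit false

namespace Cfsg.Agent.Lib.ChevFix

open Cfsg.Lie Cfsg.Agent.Lib.Chev
open scoped Matrix

variable {D : ChevalleyDatum} {T : Tables}

/-- Entrywise application of a field map. -/
def glMap (D : ChevalleyDatum) {K L : Type*} [Field K] [Field L] (f : K →+* L) :
    GL D.Idx K →* GL D.Idx L :=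
  Matrix.GeneralLinearGroup.map f

theorem glMap_val {K L : Type*} [Field K] [Field L] (f : K →+* L) (g : GL D.Idx K) :
    ((glMap D f g : GL D.Idx L) : Matrix D.Idx D.Idx L) = (g : Matrix D.Idx D.Idx K).map f := rfl

theorem glMap_injective {K L : Type*} [Field K] [Field L] (f : K →+* L) :
    Function.Injective (glMap D f) := by
  intro a b h
  refine Units.ext ?_
  have := congrArg Units.val h
  rw [glMap_val, glMap_val] at this
  exact Matrix.map_injective f.injective this

/-- A copy of `Fin n` without its ring structure. -/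
def FinCopy (n : ℕ) : Type := Fin n

variable (G : Good D T)
include G

theorem glMap_X {K L : Type*} [Field K] [Field L] (f : K →+* L) (r : ℕ) (t : K) :
    glMap D f (G.X K r t) = G.X L r (f t) :=
  Units.ext (by rw [glMap_val]; exact x_map f r t)

theorem glMap_nl {K L : Type*} [Field K] [Field L] (f : K →+* L) (l : List ℕ) :
    glMap D f (G.nl K l) = G.nl L l := by
  unfold Good.nl
  rw [map_list_prod, List.map_map]
  congr 1
  refine List.map_congr_left fun i _ => ?_
  simp [Good.ni, Good.Ng, glMap_X G]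

theorem glMap_oprod {K L : Type*} [Field K] [Field L] (f : K →+* L) :
    ∀ (m k : ℕ) (t : ℕ → K), glMap D f (G.oprod K k m t) = G.oprod L k m (fun r => f (t r)) := by
  intro m
  induction m with
  | zero => intro k t; simp [Good.oprod, Good.wordG]
  | succ m ih => intro k t; rw [G.oprod_succ, G.oprod_succ, map_mul, glMap_X G, ih]

theorem glMap_torHom {K L : Type*} [Field K] [Field L] (f : K →+* L) (c : Fin D.rank → Kˣ) :
    glMap D f (G.torHom K c) = G.torHom L (fun i => Units.map (f : K →* L) (c i)) := by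
  refine Units.ext ?_
  rw [glMap_val, G.torHom_val, G.torHom_val, dmat, dmat, Matrix.diagonal_map f.map_zero]
  congr 1
  funext x
  rcases x with j | u
  · simp
  · simp only [Function.comp_apply, Sum.elim_inr, tor, map_prod, map_zpow₀]
    refine Finset.prod_congr rfl fun i hi => ?_
    simp [extOne, Finset.mem_range.1 hi]

theorem glMap_mem_USub {K L : Type*} [Field K] [Field L] (f : K →+* L) (S : Set ℕ)
    {g : GL D.Idx K} (hg : g ∈ G.USub K S) : glMap D f g ∈ G.USub L S := by
  have h : G.USub K S ≤ (G.USub L S).comap (glMap D f) :=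
    G.USub_le_of fun q hq hp hS t => Subgroup.mem_comap.2 (by
      rw [glMap_X G]; exact G.X_mem_USub hq hp hS _)
  exact h hg

theorem glMap_mem_pos {K L : Type*} [Field K] [Field L] (f : K →+* L)
    {g : GL D.Idx K} (hg : g ∈ D.posUnipotent K) : glMap D f g ∈ D.posUnipotent L := by
  have h : D.posUnipotent K ≤ (D.posUnipotent L).comap (glMap D f) :=
    G.posUnipotent_le_of fun r hr hp t => Subgroup.mem_comap.2 (by
      rw [glMap_X G]; exact G.X_mem_posUnipotent hr hp _)
  exact h hg

theorem glMap_mem_diag {K L : Type*} [Field K] [Field L] (f : K →+* L)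
    {g : GL D.Idx K} (hg : g ∈ D.diagonalSubgroup K) : glMap D f g ∈ D.diagonalSubgroup L := by
  rw [← G.torHom_range] at hg ⊢
  obtain ⟨c, rfl⟩ := hg
  exact ⟨_, (glMap_torHom G f c).symm⟩

theorem glMap_mem_group {K L : Type*} [Field K] [Field L] (f : K →+* L)
    {g : GL D.Idx K} (hg : g ∈ D.group K) : glMap D f g ∈ D.group L := by
  have h : D.group K ≤ (D.group L).comap (glMap D f) :=
    G.group_le_of fun r hr t => Subgroup.mem_comap.2 (by rw [glMap_X G]; exact G.X_mem_group hr _)
  exact h hg

/-- An element fixed by a field map comes from the fixed field. -/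
theorem exists_of_fixed {F₀ F : Type*} [Field F₀] [Field F] (ι : F₀ →+* F) (σ : F →+* F)
    (hfix : ∀ x : F, σ x = x → ∃ y, ι y = x) (hinj : Function.Injective (G.torHom F))
    {g : GL D.Idx F} (hg : g ∈ D.group F) (hσg : glMap D σ g = g) :
    g ∈ (D.group F₀).map (glMap D ι) := by
  classical
  obtain ⟨b, hb, n, l, hl, u, hu, rfl⟩ := G.exists_normal_form hg
  have hl' : G.Rep F (G.nl F l) l := ⟨hl.1, by rw [mul_inv_cancel]; exact one_mem _⟩
  set b' := b * (n * (G.nl F l)⁻¹) with hb'_def
  have hb' : b' ∈ D.borelSubgroup F := mul_mem hb (Subgroup.mem_sup_right hl.2)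
  have hgeq : b * n * u = b' * G.nl F l * u := by rw [hb'_def]; group
  rw [hgeq] at hσg ⊢
  rw [map_mul, map_mul, glMap_nl G] at hσg
  obtain ⟨v, hv, h, hh, hbe⟩ := G.mem_borel.1 hb'
  have hσb : glMap D σ b' ∈ D.borelSubgroup F := by
    rw [hbe, map_mul]
    exact mul_mem (Subgroup.mem_sup_left (glMap_mem_pos G σ hv))
      (Subgroup.mem_sup_right (glMap_mem_diag G σ hh))
  obtain ⟨e1, e2⟩ := G.normal_form_unique hl' hσb hb' (glMap_mem_USub G σ _ hu) hu hσg
  rw [hbe, map_mul] at e1
  have e3 : v⁻¹ * glMap D σ v = h * (glMap D σ h)⁻¹ := by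
    calc v⁻¹ * glMap D σ v = v⁻¹ * (glMap D σ v * glMap D σ h) * (glMap D σ h)⁻¹ := by group
      _ = v⁻¹ * (v * h) * (glMap D σ h)⁻¹ := by rw [e1]
      _ = _ := by group
  have e4 : v⁻¹ * glMap D σ v = 1 := Subgroup.mem_bot.1 (G.pos_inf_diag (F := F) ▸
    Subgroup.mem_inf.2 ⟨mul_mem (inv_mem hv) (glMap_mem_pos G σ hv),
      e3 ▸ mul_mem hh (inv_mem (glMap_mem_diag G σ hh))⟩)
  have ev : glMap D σ v = v := (inv_mul_eq_one.1 e4).symm
  have eh : glMap D σ h = h := by rw [ev] at e1; exact mul_left_cancel e1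
  have hpos : ∀ w ∈ D.posUnipotent F, glMap D σ w = w → w ∈ (D.group F₀).map (glMap D ι) := by
    intro w hw hσw
    rw [← G.tail_npos] at hw
    have hn := G.even_n
    have hsum : npos D + npos D = D.nroots := by unfold npos; omega
    obtain ⟨t, rfl⟩ := G.exists_oprod (npos D) (npos D) le_rfl hsum _ hw
    rw [glMap_oprod G] at hσw
    have ht := G.oprod_injective (npos D) (npos D) le_rfl hsum _ _ hσw
    let t₀ : ℕ → F₀ := fun r => if hr : σ (t r) = t r then (hfix _ hr).choose else 0
    have ht₀ : ∀ r, npos D ≤ r → r < npos D + npos D → ι (t₀ r) = t r := fun r h1 h2 => by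
      have hr := ht r h1 h2
      simp only [t₀, dif_pos hr]
      exact (hfix _ hr).choose_spec
    refine ⟨G.oprod F₀ (npos D) (npos D) t₀, ?_, ?_⟩
    · refine G.borel_le_group (Subgroup.mem_sup_left ?_)
      rw [← G.tail_npos]; exact G.oprod_mem le_rfl (by omega) _
    · rw [glMap_oprod G]; exact G.oprod_congr ht₀
  refine mul_mem (mul_mem ?_ ⟨G.nl F₀ l, ?_, glMap_nl G ι l⟩) (hpos u (G.USub_le_pos _ hu) e2)
  · rw [hbe]
    refine mul_mem (hpos v hv ev) ?_
    rw [← G.torHom_range] at hh
    obtain ⟨c, rfl⟩ := hh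
    rw [glMap_torHom G] at eh
    have hc := hinj eh
    have hc' : ∀ i, σ (c i : F) = c i := fun i => congrArg Units.val (congrFun hc i)
    choose y hy using fun i => hfix _ (hc' i)
    have hy0 : ∀ i, y i ≠ 0 := fun i h0 => (c i).ne_zero (by rw [← hy i, h0, map_zero])
    refine ⟨G.torHom F₀ (fun i => Units.mk0 (y i) (hy0 i)), ?_, ?_⟩
    · exact G.borel_le_group (Subgroup.mem_sup_right (by rw [← G.torHom_range]; exact ⟨_, rfl⟩))
    · rw [glMap_torHom G]
      exact congrArg _ (funext fun i => Units.ext (hy i))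
  · exact G.monomial_le_group (G.nl_mem_monomial hl.1)

/-- The fixed points of a field automorphism of prime order. -/
theorem field_aut_fixed {F : Type*} [Field F] [Fintype F] (hn : 0 < D.nroots)
    (hinj : Function.Injective (G.torHom F))
    (φ : MulAut ↥(D.group F)) (hφ : D.IsFieldAut φ) (r : ℕ) (ho : orderOf φ = r) :
    ∃ (F₀ : Type) (_ : Field F₀) (_ : Fintype F₀), Fintype.card F = Fintype.card F₀ ^ r ∧
      Nonempty (↥((MulEquiv.toMonoidHom φ).eqLocus (MonoidHom.id ↥(D.group F))) ≃*
        ↥(D.group F₀)) := by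
  classical
  obtain ⟨σ, hσ⟩ := hφ
  have hall : ∀ g : ↥(D.group F), ((φ g : ↥(D.group F)) : GL D.Idx F) =
      glMap D (σ : F →+* F) (g : GL D.Idx F) := by
    rintro ⟨g, hg⟩
    refine Subgroup.closure_induction (p := fun x hx => ((φ ⟨x, hx⟩ : ↥(D.group F)) : GL D.Idx F) =
      glMap D (σ : F →+* F) x) ?_ ?_ ?_ ?_ hg
    · intro x hx
      obtain ⟨s, t, hx'⟩ := hx
      refine Units.ext ?_
      have hx2 : (x : Matrix D.Idx D.Idx F) = D.x F s.val t := by
        rw [hx']; simp [ChevalleyDatum.x, s.isLt]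
      rw [hσ ⟨x, Subgroup.subset_closure ⟨s, t, hx'⟩⟩ s.val t s.isLt hx2, glMap_val, hx2]
      exact (x_map (σ : F →+* F) s.val t).symm
    · rw [map_one]; exact congrArg Subtype.val (map_one φ)
    · intro a b ha hb iha ihb
      have e : (⟨a * b, mul_mem ha hb⟩ : ↥(D.group F)) = ⟨a, ha⟩ * ⟨b, hb⟩ := rfl
      simp only [e, map_mul, Subgroup.coe_mul, iha, ihb]
    · intro a ha iha
      have e : (⟨a⁻¹, inv_mem ha⟩ : ↥(D.group F)) = (⟨a, ha⟩ : ↥(D.group F))⁻¹ := rfl
      simp only [e, map_inv, Subgroup.coe_inv, iha]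
  have hpow : ∀ (k : ℕ) (g : ↥(D.group F)), (((φ ^ k) g : ↥(D.group F)) : GL D.Idx F) =
      glMap D ((σ ^ k : RingAut F) : F →+* F) (g : GL D.Idx F) := by
    intro k
    induction k with
    | zero =>
      intro g
      refine Units.ext ?_
      ext i j; rfl
    | succ k ih =>
      intro g
      rw [pow_succ', MulAut.mul_apply, hall, ih]
      refine Units.ext ?_
      ext i j
      rw [pow_succ']; rfl
  have hord : orderOf (σ : RingAut F) = r := by
    rw [← ho]
    refine orderOf_eq_orderOf_iff.2 fun k => ?_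
    constructor
    · intro h
      refine MulEquiv.ext fun g => Subtype.ext ?_
      rw [hpow, h]
      refine Units.ext ?_
      ext i j; rfl
    · intro h
      refine RingEquiv.ext fun t => ?_
      have hX := G.X_mem_group hn t (F := F)
      have := hpow k ⟨_, hX⟩
      rw [h] at this
      rw [glMap_X G] at this
      exact (G.X_injective hn this).symm
  haveI : Finite (RingAut F) := Finite.of_injective (fun τ : RingAut F => (τ : F → F)) DFunLike.coe_injective
  haveI : Fintype ↥(Subgroup.zpowers (σ : RingAut F)) := Fintype.ofFinite _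
  let K : Subfield F := FixedPoints.subfield (Subgroup.zpowers (σ : RingAut F)) F
  haveI : Fintype K := Fintype.ofFinite K
  have hcard : Fintype.card F = Fintype.card K ^ r := by
    have h1 : Module.finrank K F = r := by
      rw [← hord, ← Nat.card_zpowers, Nat.card_eq_fintype_card]
      exact FixedPoints.finrank_eq_card (Subgroup.zpowers (σ : RingAut F)) F
    rw [← h1]; exact Module.card_eq_pow_finrank
  let e : FinCopy (Fintype.card K) ≃ K := (Fintype.equivFin K).symm
  letI : Fintype (FinCopy (Fintype.card K)) := Fintype.ofEquiv K e.symm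
  letI : Field (FinCopy (Fintype.card K)) := e.field
  let er : FinCopy (Fintype.card K) ≃+* K := e.ringEquiv
  refine ⟨FinCopy (Fintype.card K), inferInstance, inferInstance, by rw [hcard, Fintype.card_congr e], ?_⟩
  let ι : FinCopy (Fintype.card K) →+* F := K.subtype.comp er.toRingHom
  have hι : ∀ y, (σ : F →+* F) (ι y) = ι y := fun y =>
    (er y).2 ⟨(σ : RingAut F), Subgroup.mem_zpowers _⟩
  have hfix : ∀ x : F, (σ : F →+* F) x = x → ∃ y, ι y = x := by
    intro x hx
    have hxK : x ∈ K := by
      rintro ⟨τ, hτ⟩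
      have : Subgroup.zpowers (σ : RingAut F) ≤ MulAction.stabilizer (RingAut F) x :=
        Subgroup.zpowers_le.2 hx
      exact this hτ
    exact ⟨er.symm ⟨x, hxK⟩, by simp [ι]⟩
  let E : ↥((MulEquiv.toMonoidHom φ).eqLocus (MonoidHom.id ↥(D.group F))) →* GL D.Idx F :=
    (D.group F).subtype.comp (Subgroup.subtype _)
  let J : ↥(D.group (FinCopy (Fintype.card K))) →*
      ↥((MulEquiv.toMonoidHom φ).eqLocus (MonoidHom.id ↥(D.group F))) :=
    MonoidHom.codRestrict
      (MonoidHom.codRestrict ((glMap D ι).comp (Subgroup.subtype _)) (D.group F)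
        fun g => glMap_mem_group G ι g.2)
      _ (fun g => by
        refine Subtype.ext ?_
        show ((φ _ : ↥(D.group F)) : GL D.Idx F) = _
        rw [hall]
        refine Units.ext ?_
        ext i j
        exact hι _)
  refine ⟨(MulEquiv.ofBijective J ⟨?_, ?_⟩).symm⟩
  · intro a b h
    exact Subtype.ext (glMap_injective ι (congrArg (fun x => ((x.1 : ↥(D.group F)) : GL D.Idx F)) h))
  · rintro ⟨⟨g, hg⟩, hgf⟩
    have hfg : glMap D (σ : F →+* F) g = g := by
      rw [← hall ⟨g, hg⟩]; exact congrArg Subtype.val hgf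
    obtain ⟨g₀, hg₀, rfl⟩ := exists_of_fixed G ι _ hfix hinj hg hfg
    exact ⟨⟨g₀, hg₀⟩, rfl⟩

theorem torHom_injective {F : Type*} [Field F] [Fintype F] {U V Ui Vi : List (List ℤ)} {d : List ℕ}
    (h : chkSmith D T U V Ui Vi d = true) (hd : ∀ a < D.rank, d.getD a 0 = 1) :
    Function.Injective (G.torHom F) := by
  classical
  have h1 := G.card_diag h (F := F)
  rw [Finset.prod_eq_one (fun a ha => by rw [hd a (Finset.mem_range.1 ha)]; exact Nat.gcd_one_right _),
    one_mul] at h1
  have hc : Nat.card (Fin D.rank → Fˣ) = Nat.card (G.torHom F).range := by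
    rw [G.torHom_range, h1, Nat.card_pi, Finset.prod_const, Finset.card_univ, Fintype.card_fin,
      Nat.card_units, Nat.card_eq_fintype_card]
  have := (Nat.bijective_iff_surjective_and_card (G.torHom F).rangeRestrict).2
    ⟨(G.torHom F).rangeRestrict_surjective, hc⟩
  intro a b hab
  exact this.1 (Subtype.ext hab)

end Cfsg.Agent.Lib.ChevFix
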